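import Groth.Agent.HMu.Translate
import Groth.Agent.S16114
import Groth.Agent.AlgSpLib.Reduced
import Groth.Prelude.Def_GmPts
import Mathlib.AlgebraicGeometry.AlgClosed.Basic
import Mathlib.RingTheory.RingHom.Smooth

/-!
# Uniqueness of linearisations for groups without characters
-/

set_option autoImplicit false
set_option backward.isDefEq.respectTransparency false
set_option linter.style.haveILetI false

universe u

open CategoryTheory CategoryTheory.Limits MonoidalCategory CartesianMonoidalCategory MonObj GrpObj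
  AlgebraicGeometry Opposite

noncomputable section

namespace Groth.Agent.GITLin

theorem toSpecΓ_appLE_fromSpec {T X : Scheme.{u}} {U : X.Opens} (hU : IsAffineOpen U) (f : T ⟶ X)
    (h : ⊤ ≤ f ⁻¹ᵁ U) : T.toSpecΓ ≫ Spec.map (f.appLE U ⊤ h) ≫ hU.fromSpec = f := by
  haveI : Epi (⊤ : T.Opens).ι := inferInstanceAs (Epi (Scheme.topIso T).hom)
  rw [← cancel_epi (⊤ : T.Opens).ι, ← Category.assoc, ← Scheme.Opens.toSpecΓ_top,
    Scheme.Opens.toSpecΓ_SpecMap_appLE_assoc, hU.toSpecΓ_fromSpec, Scheme.Hom.resLE_comp_ι]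

theorem appLE_toSpecΓ_fromSpec {T X : Scheme.{u}} {U : X.Opens} (hU : IsAffineOpen U)
    (φ : Γ(X, U) ⟶ Γ(T, ⊤)) (h : ⊤ ≤ (T.toSpecΓ ≫ Spec.map φ ≫ hU.fromSpec) ⁻¹ᵁ U) :
    (T.toSpecΓ ≫ Spec.map φ ≫ hU.fromSpec).appLE U ⊤ h = φ := by
  have h1 : hU.fromSpec.appLE U ⊤ (hU.fromSpec_preimage_self.ge) = (Scheme.ΓSpecIso Γ(X, U)).inv := by
    rw [Scheme.Hom.appLE, hU.fromSpec_app_self]
    simp [← Functor.map_comp, Subsingleton.elim _ (𝟙 (op (⊤ : (Spec Γ(X, U)).Opens)))]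
  have h2 : (T.toSpecΓ ≫ Spec.map φ ≫ hU.fromSpec).appLE U ⊤ h =
      hU.fromSpec.appLE U ⊤ (hU.fromSpec_preimage_self.ge) ≫ (T.toSpecΓ ≫ Spec.map φ).appLE ⊤ ⊤ le_top := by
    rw [Scheme.Hom.appLE_comp_appLE]
    exact (by simp only [Category.assoc] :
      ((T.toSpecΓ ≫ Spec.map φ) ≫ hU.fromSpec).appLE U ⊤ _ = _).symm
  rw [h2, h1, show (T.toSpecΓ ≫ Spec.map φ).appLE ⊤ ⊤ le_top = (T.toSpecΓ ≫ Spec.map φ).appTop from
    Scheme.Hom.appLE_eq_app _, Scheme.Hom.comp_appTop, Scheme.toSpecΓ_appTop, Scheme.ΓSpecIso_naturality,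
    Iso.inv_hom_id_assoc]

section base

variable {S : Scheme.{u}} {X V : Over S} (π : V ⟶ X) [IsAffineHom π.left]
  {U W : X.left.Opens} {y : Γ(V.left, π.left ⁻¹ᵁ U)}

omit [IsAffineHom π.left] in
theorem evalFn_res (hWU : W ≤ U) {T : Over S} (v : T ⟶ V) (h : ⊤ ≤ v.left ⁻¹ᵁ (π.left ⁻¹ᵁ W))
    (h' : ⊤ ≤ v.left ⁻¹ᵁ (π.left ⁻¹ᵁ U)) :
    v.left.appLE (π.left ⁻¹ᵁ W) ⊤ h (GLinSh.res π hWU y) = HMNum.evalFn π y v h' :=
  congr($(Scheme.Hom.map_appLE v.left h (homOfLE (π.left.preimage_mono hWU)).op) y)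

omit [IsAffineHom π.left] in
theorem le_of_lift {T : Over S} {v : T ⟶ V} {x : T ⟶ X} (hv : v ≫ π = x) (hx : ⊤ ≤ x.left ⁻¹ᵁ W) :
    ⊤ ≤ v.left ⁻¹ᵁ (π.left ⁻¹ᵁ W) := by
  subst hv; exact hx

/-- points are determined by base point and coordinate -/
theorem pt_ext (hy : GLinSh.IsFibreCoord π U y) (hW : IsAffineOpen W) (hWU : W ≤ U) {T : Over S} {v w : T ⟶ V}
    (hv : ⊤ ≤ (v ≫ π).left ⁻¹ᵁ W) (hvw : v ≫ π = w ≫ π)
    (he : HMNum.evalFn π y v (le_of_lift π rfl (hv.trans ((v ≫ π).left.preimage_mono hWU))) =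
      HMNum.evalFn π y w (le_of_lift π hvw.symm (hv.trans ((v ≫ π).left.preimage_mono hWU)))) : v = w := by
  have hw : ⊤ ≤ w.left ⁻¹ᵁ (π.left ⁻¹ᵁ W) := le_of_lift π hvw.symm hv
  have hV : IsAffineOpen (π.left ⁻¹ᵁ W) := hW.preimage π.left
  ext : 1
  have key : v.left.appLE (π.left ⁻¹ᵁ W) ⊤ hv = w.left.appLE (π.left ⁻¹ᵁ W) ⊤ hw := by
    have : (v.left.appLE (π.left ⁻¹ᵁ W) ⊤ hv).hom.comp
        (Polynomial.eval₂RingHom (π.left.app W).hom (GLinSh.res π hWU y)) =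
        (w.left.appLE (π.left ⁻¹ᵁ W) ⊤ hw).hom.comp
        (Polynomial.eval₂RingHom (π.left.app W).hom (GLinSh.res π hWU y)) := by
      refine Polynomial.ringHom_ext (fun c => ?_) ?_
      · simp only [RingHom.comp_apply, Polynomial.coe_eval₂RingHom, Polynomial.eval₂_C]
        rw [Scheme.Hom.app_eq_appLE, ← ConcreteCategory.comp_apply, ← ConcreteCategory.comp_apply,
          Scheme.Hom.appLE_comp_appLE, Scheme.Hom.appLE_comp_appLE]
        exact HMu.appLE_eq (congrArg CommaMorphism.left hvw) _ _ _ _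
      · simp only [RingHom.comp_apply, Polynomial.coe_eval₂RingHom, Polynomial.eval₂_X]
        exact ((evalFn_res π hWU v hv _).trans he).trans (evalFn_res π hWU w hw _).symm
    ext1
    exact RingHom.ext fun z => by
      obtain ⟨p, rfl⟩ := (hy W hW hWU).2 z
      exact congr($this p)
  rw [← toSpecΓ_appLE_fromSpec hV v.left hv, ← toSpecΓ_appLE_fromSpec hV w.left hw, key]

/-- a point with a given coordinate -/
theorem exists_pt (hy : GLinSh.IsFibreCoord π U y) (hW : IsAffineOpen W) (hWU : W ≤ U) {T : Over S} (x : T ⟶ X)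
    (hx : ⊤ ≤ x.left ⁻¹ᵁ W) (t : Γ(T.left, ⊤)) :
    ∃ (v : T ⟶ V) (hv : v ≫ π = x),
      HMNum.evalFn π y v (le_of_lift π hv (hx.trans (x.left.preimage_mono hWU))) = t := by
  have hV : IsAffineOpen (π.left ⁻¹ᵁ W) := hW.preimage π.left
  let e := RingEquiv.ofBijective _ (hy W hW hWU)
  let φ : Γ(V.left, π.left ⁻¹ᵁ W) ⟶ Γ(T.left, ⊤) := CommRingCat.ofHom
    ((Polynomial.eval₂RingHom (x.left.appLE W ⊤ hx).hom t).comp e.symm.toRingHom)
  let f : T.left ⟶ V.left := T.left.toSpecΓ ≫ Spec.map φ ≫ hV.fromSpec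
  have hc : π.left.appLE W (π.left ⁻¹ᵁ W) le_rfl ≫ φ = x.left.appLE W ⊤ hx := by
    rw [← Scheme.Hom.app_eq_appLE]
    ext c
    have : e.symm (π.left.app W c) = Polynomial.C c := e.injective (by simp [e])
    show Polynomial.eval₂ _ _ (e.symm (π.left.app W c)) = _
    rw [this, Polynomial.eval₂_C]
  have hf : f ≫ π.left = x.left := by
    rw [Category.assoc, Category.assoc, ← hW.SpecMap_appLE_fromSpec π.left hV le_rfl, ← Spec.map_comp_assoc, hc]
    exact toSpecΓ_appLE_fromSpec hW x.left hx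
  let v : T ⟶ V := Over.homMk f (by rw [← Over.w π, ← Category.assoc, hf, Over.w])
  have hv : v ≫ π = x := by ext : 1; exact hf
  have hvW : ⊤ ≤ v.left ⁻¹ᵁ (π.left ⁻¹ᵁ W) := le_of_lift π hv hx
  refine ⟨v, hv, ?_⟩
  rw [← evalFn_res π hWU v hvW]
  have hφ : v.left.appLE (π.left ⁻¹ᵁ W) ⊤ hvW = φ := appLE_toSpecΓ_fromSpec hV φ hvW
  rw [hφ]
  show Polynomial.eval₂ _ _ (e.symm (GLinSh.res π hWU y)) = t
  have : e.symm (GLinSh.res π hWU y) = Polynomial.X := e.injective (by simp [e])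
  rw [this, Polynomial.eval₂_X]

end base

theorem isMonHom_of {C : Type*} [Category C] [CartesianMonoidalCategory C] {A M : C} [MonObj A] [MonObj M]
    (f : A ⟶ M) (h1 : η[A] ≫ f = 1) (h2 : μ[A] ≫ f = (fst A A ≫ f) * (snd A A ≫ f)) : IsMonHom f where
  one_hom := by rw [h1, Hom.one_def, toUnit_unique (toUnit _) (𝟙 _), Category.id_comp]
  mul_hom := by rw [h2, Hom.mul_def]; congr 1; ext <;> simp

set_option maxHeartbeats 1000000

section field

variable {k : Type u} [Field k] [IsAlgClosed k]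



variable {G X V : Over (Spec (CommRingCat.of k))} [GrpObj G]

omit [IsAlgClosed k] in
theorem smooth_proj {π : V ⟶ X} (A : GLinSh.LinAtlas π) : Smooth π.left := by
  haveI := A.affine
  rw [HasRingHomProperty.iff_exists_appLE (P := @Smooth) (RingHom.Smooth.stableUnderComposition.stableUnderCompositionWithLocalizationAway RingHom.Smooth.holdsForLocalizationAway).left]
  intro p
  obtain ⟨U, hU, ⟨y, hy⟩⟩ := A.cover (π.left p)
  obtain ⟨W, hW, hpW, hWU⟩ := exists_isAffineOpen_mem_and_subset hU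
  refine ⟨⟨W, hW⟩, ⟨π.left ⁻¹ᵁ W, hW.preimage π.left⟩, hpW, le_rfl, ?_⟩
  rw [← Scheme.Hom.app_eq_appLE]
  have e : (π.left.app W).hom = (Polynomial.eval₂RingHom (π.left.app W).hom (GLinSh.res π hWU y)).comp Polynomial.C :=
    RingHom.ext fun c => by simp
  rw [e]
  refine RingHom.Smooth.stableUnderComposition _ _ ?_ (RingHom.Smooth.of_bijective (A.coord U y hy W hW hWU))
  rw [← Polynomial.algebraMap_eq]
  show RingHom.Smooth _
  exact RingHom.smooth_algebraMap.mpr ⟨inferInstance, inferInstance⟩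

omit [IsAlgClosed k] in
theorem preimage_eq_top (x : 𝟙_ (Over (Spec (CommRingCat.of k))) ⟶ X) {U : X.left.Opens} (h : x.left (IsLocalRing.closedPoint k) ∈ U) :
    x.left ⁻¹ᵁ U = ⊤ := by
  haveI : Subsingleton ↥(Spec (CommRingCat.of k)) := inferInstanceAs (Subsingleton (PrimeSpectrum k))
  exact HMu.preimage_top x _ h

omit [IsAlgClosed k] in
theorem isField_one : IsField Γ((𝟙_ (Over (Spec (CommRingCat.of k)))).left, ⊤) :=
  (Scheme.ΓSpecIso (CommRingCat.of k)).commRingCatIsoToRingEquiv.toMulEquiv.isField (Field.toIsField k)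

variable (a : AlgGrp.Action G X) (π : V ⟶ X) (A : GLinSh.LinAtlas π) (Φ₁ Φ₂ : AlgGrp.Action G V)
  (h₁ : Φ₁.act ≫ π = (G ◁ π) ≫ a.act) (h₂ : Φ₂.act ≫ π = (G ◁ π) ≫ a.act)
  (hl₁ : GLinSh.IsLinearLift a π Φ₁ A.chart h₁) (hl₂ : GLinSh.IsLinearLift a π Φ₂ A.chart h₂)

omit [IsAlgClosed k] in
theorem rel_π {T : Over (Spec (CommRingCat.of k))} (g : T ⟶ G) (v : T ⟶ V) (hΦ₁ : Φ₁.act ≫ π = (G ◁ π) ≫ a.act)
    (hΦ₂ : Φ₂.act ≫ π = (G ◁ π) ≫ a.act) :
    (lift g⁻¹ (lift g v ≫ Φ₁.act) ≫ Φ₂.act) ≫ π = v ≫ π := by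
  rw [Category.assoc, hΦ₂, lift_whiskerLeft_assoc, Category.assoc, hΦ₁, lift_whiskerLeft_assoc, HMu.act_act,
    inv_mul_cancel, HMu.one_act]

include hl₁ hl₂ in
omit [IsAlgClosed k] in
theorem rel_scalar (g : 𝟙_ (Over (Spec (CommRingCat.of k))) ⟶ G) (x : 𝟙_ (Over (Spec (CommRingCat.of k))) ⟶ X) {U : X.left.Opens}
    (hx : x.left ⁻¹ᵁ U = ⊤) {y : Γ(V.left, π.left ⁻¹ᵁ U)} (hy : y ∈ A.chart U) :
    ∃ C : Γ((𝟙_ (Over (Spec (CommRingCat.of k)))).left, ⊤), ∀ (v : 𝟙_ (Over (Spec (CommRingCat.of k))) ⟶ V) (hv : v ≫ π = x),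
      HMNum.evalFn π y (lift g⁻¹ (lift g v ≫ Φ₁.act) ≫ Φ₂.act)
        (le_of_lift π ((rel_π a π Φ₁ Φ₂ g v h₁ h₂).trans hv) hx.ge) =
      C * HMNum.evalFn π y v (le_of_lift π hv hx.ge) := by
  obtain ⟨U', hs, y', hy'⟩ := A.cover ((lift g x ≫ a.act).left (IsLocalRing.closedPoint k))
  have hx' := preimage_eq_top _ hs
  obtain ⟨C₁, hC₁⟩ := HMu.eval_translate π A.chart Φ₁ h₁ hl₁ hy hy' g (𝟙 _) x hx (lift g x ≫ a.act) hx'
    (by simp)
  obtain ⟨C₂, hC₂⟩ := HMu.eval_translate π A.chart Φ₂ h₂ hl₂ hy' hy g⁻¹ (𝟙 _) (lift g x ≫ a.act) hx' x hx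
    (by simp [HMu.act_act, HMu.one_act])
  refine ⟨C₂ * C₁, fun v hv => ?_⟩
  have hgv : (lift g v ≫ Φ₁.act) ≫ π = 𝟙 _ ≫ lift g x ≫ a.act := by
    rw [Category.assoc, h₁, lift_whiskerLeft_assoc, hv, Category.id_comp]
  have e2 := hC₂ (lift g v ≫ Φ₁.act) hgv (by rw [Category.id_comp, rel_π a π Φ₁ Φ₂ g v h₁ h₂, hv])
  have e1 := hC₁ v (by rw [Category.id_comp, hv]) hgv
  rw [e2, e1, _root_.mul_assoc]

theorem isUnit_of_points [LocallyOfFiniteType G.hom] (r : Γ(G.left, ⊤))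
    (h : ∀ g : 𝟙_ (Over (Spec (CommRingCat.of k))) ⟶ G, IsUnit (g.left.appTop r)) : IsUnit r := by
  haveI : JacobsonSpace ↥G.left := LocallyOfFiniteType.jacobsonSpace G.hom
  refine (G.left.toRingedSpace.isUnit_of_isUnit_germ _ _ fun z _ => ?_)
  suffices G.left.basicOpen r = ⊤ from
    (G.left.mem_basicOpen r z trivial).mp (this.ge (show z ∈ (⊤ : G.left.Opens) from trivial))
  by_contra hne
  obtain ⟨z, hz, hzc⟩ := nonempty_inter_closedPoints (Z := ((G.left.basicOpen r : Set G.left))ᶜ)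
    (Set.nonempty_compl.mpr fun he => hne (TopologicalSpace.Opens.ext he))
    (IsClosed.isLocallyClosed (G.left.basicOpen r).2.isClosed_compl)
  let g : 𝟙_ (Over (Spec (CommRingCat.of k))) ⟶ G := Over.homMk (pointOfClosedPoint G.hom z hzc) (pointOfClosedPoint_comp _ _ _)
  have : IsLocalRing.closedPoint k ∈ g.left ⁻¹ᵁ G.left.basicOpen r := by
    rw [Scheme.preimage_basicOpen_top, Scheme.basicOpen_of_isUnit _ (h g)]
    trivial
  have h' : pointOfClosedPoint G.hom z hzc (IsLocalRing.closedPoint k) ∈ G.left.basicOpen r := this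
  rw [pointOfClosedPoint_apply] at h'
  exact hz h'

omit [IsAlgClosed k] in
theorem isMonHom_ptOfUnit (v : Γ(G.left, ⊤)ˣ) (he : η[G].left.appTop (v : Γ(G.left, ⊤)) = 1)
    (hmul : μ[G].left.appTop (v : Γ(G.left, ⊤)) =
      (fst G G).left.appTop (v : Γ(G.left, ⊤)) * (snd G G).left.appTop (v : Γ(G.left, ⊤))) :
    IsMonHom (GmPts.ptOfUnit v : G ⟶ Red.Gm (Spec (CommRingCat.of k))) := by
  refine isMonHom_of _ ?_ ?_
  · apply (GmPts.equiv _).injective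
    refine Eq.trans ?_ (map_one _).symm
    apply Units.ext
    simp only [GmPts.equiv_apply, GmPts.unitOfPt_comp, GmPts.unitOfPt_ptOfUnit]
    exact he
  · apply (GmPts.equiv _).injective
    refine Eq.trans ?_ (map_mul _ _ _).symm
    apply Units.ext
    simp only [GmPts.equiv_apply, GmPts.unitOfPt_comp, GmPts.unitOfPt_ptOfUnit, Units.val_mul]
    exact hmul

include hl₁ hl₂ in
theorem act_eq_at_point [Smooth G.hom] [LocallyOfFiniteType G.hom] [QuasiCompact G.hom] [ConnectedSpace G.left]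
    (hχ : ∀ (χ : G ⟶ Red.Gm (Spec (CommRingCat.of k))) [IsMonHom χ], χ = 1) (g : 𝟙_ (Over (Spec (CommRingCat.of k))) ⟶ G) (v : 𝟙_ (Over (Spec (CommRingCat.of k))) ⟶ V) :
    lift g v ≫ Φ₁.act = lift g v ≫ Φ₂.act := by
  haveI := A.affine
  haveI : Subsingleton ↥(Spec (CommRingCat.of k)) := inferInstanceAs (Subsingleton (PrimeSpectrum k))
  let x := v ≫ π
  obtain ⟨U, hU, y, hy⟩ := A.cover (x.left (IsLocalRing.closedPoint k))
  obtain ⟨W, hW, hxW, hWU⟩ := exists_isAffineOpen_mem_and_subset hU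
  have hxU := preimage_eq_top x hU
  have hxW' := preimage_eq_top x hxW
  obtain ⟨v₁, hv₁, hyv₁⟩ := exists_pt π (A.coord U y hy) hW hWU x hxW'.ge 1
  obtain ⟨v₀, hv₀, hyv₀⟩ := exists_pt π (A.coord U y hy) hW hWU x hxW'.ge 0
  have ext_fib : ∀ {u w : 𝟙_ (Over (Spec (CommRingCat.of k))) ⟶ V} (hu : u ≫ π = x) (hw : w ≫ π = x),
      HMNum.evalFn π y u (le_of_lift π hu hxU.ge) = HMNum.evalFn π y w (le_of_lift π hw hxU.ge) → u = w :=
    fun hu hw he => pt_ext π (A.coord U y hy) hW hWU (hu.symm ▸ hxW'.ge) (hu.trans hw.symm) he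
  let w : (𝟙_ (Over (Spec (CommRingCat.of k))) ⟶ G) → (𝟙_ (Over (Spec (CommRingCat.of k))) ⟶ V) → (𝟙_ (Over (Spec (CommRingCat.of k))) ⟶ V) :=
    fun g v => lift g⁻¹ (lift g v ≫ Φ₁.act) ≫ Φ₂.act
  have w_inj : ∀ g {u u'}, w g u = w g u' → u = u' := fun g {u u'} h => by
    have h' := congrArg (fun t => lift g t ≫ Φ₂.act) h
    simp only [w, HMu.act_act, mul_inv_cancel, HMu.one_act] at h'
    have h'' := congrArg (fun t => lift g⁻¹ t ≫ Φ₁.act) h'
    simpa only [HMu.act_act, inv_mul_cancel, HMu.one_act] using h''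
  let T1 := toUnit G ≫ v₁
  let ρ : G ⟶ V := lift (𝟙 G)⁻¹ (lift (𝟙 G) T1 ≫ Φ₁.act) ≫ Φ₂.act
  have hρ : ρ ≫ π = toUnit G ≫ x := by
    rw [rel_π a π Φ₁ Φ₂ _ _ h₁ h₂, Category.assoc, hv₁]
  have hgρ : ∀ g : 𝟙_ (Over (Spec (CommRingCat.of k))) ⟶ G, g ≫ ρ = w g v₁ := fun g => by
    simp only [ρ, w, T1, comp_lift_assoc, GrpObj.comp_inv, Category.comp_id]
    rw [← Category.assoc g (toUnit G), toUnit_unique (g ≫ toUnit G) (𝟙 _), Category.id_comp]
  have hρU : ⊤ ≤ ρ.left ⁻¹ᵁ (π.left ⁻¹ᵁ U) := le_of_lift π hρ (by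
    rw [show (toUnit G ≫ x).left ⁻¹ᵁ U = (toUnit G).left ⁻¹ᵁ (x.left ⁻¹ᵁ U) from rfl, hxU]; rfl)
  let r := HMNum.evalFn π y ρ hρU
  have hr : ∀ g, g.left.appTop r =
      HMNum.evalFn π y (w g v₁) (le_of_lift π ((rel_π a π Φ₁ Φ₂ g v₁ h₁ h₂).trans hv₁) hxU.ge) := fun g => by
    refine Eq.trans (b := (g ≫ ρ).left.appLE (π.left ⁻¹ᵁ U) ⊤ (le_of_lift π
      ((congrArg (· ≫ π) (hgρ g)).trans ((rel_π a π Φ₁ Φ₂ g v₁ h₁ h₂).trans hv₁)) hxU.ge) y) ?_
      (HMu.appLE_eq (congrArg CommaMorphism.left (hgρ g)) _ _ _ y)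
    show _ = (g.left ≫ ρ.left).appLE _ _ _ y
    simp only [r, HMNum.evalFn, Scheme.Hom.appTop, Scheme.Hom.app_eq_appLE, ← ConcreteCategory.comp_apply,
      Scheme.Hom.appLE_comp_appLE]
    rfl
  have hC : ∀ g, ∀ u (hu : u ≫ π = x), HMNum.evalFn π y (w g u)
      (le_of_lift π ((rel_π a π Φ₁ Φ₂ g u h₁ h₂).trans hu) hxU.ge) =
      g.left.appTop r * HMNum.evalFn π y u (le_of_lift π hu hxU.ge) := fun g => by
    obtain ⟨C, hC⟩ := rel_scalar a π A Φ₁ Φ₂ h₁ h₂ hl₁ hl₂ g x hxU hy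
    have : g.left.appTop r = C := by rw [hr, hC v₁ hv₁, hyv₁, _root_.mul_one]
    rw [this]
    exact hC
  have hru : IsUnit r := isUnit_of_points r fun g => by
    letI := (isField_one (k := k)).toField
    refine isUnit_iff_ne_zero.mpr fun h0 => ?_
    have := ext_fib ((rel_π a π Φ₁ Φ₂ g v₁ h₁ h₂).trans hv₁) ((rel_π a π Φ₁ Φ₂ g v₀ h₁ h₂).trans hv₀)
      (by rw [hC g v₁ hv₁, hC g v₀ hv₀, h0, zero_mul, zero_mul])
    cases w_inj g this
    exact one_ne_zero (hyv₁.symm.trans hyv₀)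
  have he : η[G].left.appTop r = 1 := by
    rw [hr]
    refine Eq.trans (HMu.appLE_eq (congrArg CommaMorphism.left ?_) _ _ _ y) hyv₁
    rw [show η[G] = (1 : 𝟙_ (Over (Spec (CommRingCat.of k))) ⟶ G) by rw [Hom.one_def, toUnit_unique (toUnit _) (𝟙 _), Category.id_comp]]
    simp only [w, inv_one, HMu.one_act]
  have hmul := S16114.result k G r hru he
  let χ : G ⟶ Red.Gm (Spec (CommRingCat.of k)) := GmPts.ptOfUnit hru.unit
  haveI : IsMonHom χ := isMonHom_ptOfUnit hru.unit he hmul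
  have hr1 : r = 1 := by
    have := congrArg Red.gmFn (hχ χ)
    rwa [GmPts.gmFn_ptOfUnit, GmPts.gmFn_one] at this
  have hw : w g v = v := ext_fib (rel_π a π Φ₁ Φ₂ g v h₁ h₂) rfl (by rw [hC g v rfl, hr1, map_one, _root_.one_mul])
  have := congrArg (fun t => lift g t ≫ Φ₂.act) hw
  simpa only [w, HMu.act_act, mul_inv_cancel, HMu.one_act] using this

include hl₁ hl₂ A in
theorem act_unique [Smooth G.hom] [LocallyOfFiniteType G.hom] [QuasiCompact G.hom] [ConnectedSpace G.left]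
    [LocallyOfFiniteType X.hom] [IsReduced X.left] (hχ : ∀ (χ : G ⟶ Red.Gm (Spec (CommRingCat.of k))) [IsMonHom χ], χ = 1) :
    Φ₁.act = Φ₂.act := by
  haveI := A.affine
  haveI := smooth_proj A
  haveI : IsReduced V.left := AlgSpLib.isReduced_of_smooth π.left
  haveI : Smooth (snd G V).left := MorphismProperty.pullback_snd _ _ inferInstance
  haveI : IsReduced (G ⊗ V).left := AlgSpLib.isReduced_of_smooth (snd G V).left
  haveI : LocallyOfFiniteType V.hom := by rw [← Over.w π]; infer_instance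
  haveI : LocallyOfFiniteType (G ⊗ V).hom := by rw [← Over.w (snd G V)]; infer_instance
  haveI : JacobsonSpace ↥(G ⊗ V).left := LocallyOfFiniteType.jacobsonSpace (G ⊗ V).hom
  ext : 1
  refine ext_of_fromSpecResidueField_eq _ _ π.left (closedPoints _)
    (dense_iff_closure_eq.mpr closure_closedPoints) (fun z hz => ?_) ?_
  · let p : 𝟙_ (Over (Spec (CommRingCat.of k))) ⟶ G ⊗ V := Over.homMk (pointOfClosedPoint (G ⊗ V).hom z hz) (pointOfClosedPoint_comp _ _ _)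
    have := congrArg CommaMorphism.left
      (act_eq_at_point a π A Φ₁ Φ₂ h₁ h₂ hl₁ hl₂ hχ (p ≫ fst G V) (p ≫ snd G V))
    simp only [← comp_lift, lift_fst_snd, Category.comp_id, Over.comp_left] at this
    rw [← cancel_epi (Spec.map (residueFieldIsoBase (G ⊗ V).hom z hz).hom), ← Category.assoc, ← Category.assoc]
    exact this
  · rw [← Over.comp_left, ← Over.comp_left, h₁, h₂]

end field

end Groth.Agent.GITLin
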