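import Groth.Agent.SymAlg.PowSym
import Groth.Agent.SymAlg.Graded
import Groth.Agent.RelSpecUP.Basic
import Groth.Agent.TMul.AmpleBasis
import Groth.Prelude.Def_CohB1

/-!
# The total space of an invertible module, with its fibre coordinates
-/

set_option autoImplicit false
set_option backward.isDefEq.respectTransparency false
set_option linter.style.haveILetI false

universe u

open CategoryTheory CategoryTheory.Limits AlgebraicGeometry TopologicalSpace Opposite

noncomputable section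

namespace Groth.Agent.GITLin

open Groth.Agent Groth.Agent.SymAlg TMul

variable {Y : Scheme.{u}} {π' : Y ⟶ Y}

/-- a linear system of fibre coordinates on `π : T ⟶ Y` over affine opens -/
structure Coords {T Y : Scheme.{u}} (π : T ⟶ Y) where
  /-- index type -/
  I : Type u
  /-- the affine open -/
  W : I → Y.Opens
  affine : ∀ i, IsAffineOpen (W i)
  /-- the coordinate -/
  y : ∀ i, Γ(T, π ⁻¹ᵁ W i)
  cover : ∀ x : Y, ∃ i, x ∈ W i
  bij : ∀ i, Function.Bijective (Polynomial.eval₂RingHom (π.app (W i)).hom (y i))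
  linear : ∀ i k, ∃ c : Γ(Y, W i ⊓ W k), IsUnit c ∧
    T.presheaf.map (homOfLE (π.preimage_mono (inf_le_right : W i ⊓ W k ≤ W k))).op (y k) =
      π.app (W i ⊓ W k) c * T.presheaf.map (homOfLE (π.preimage_mono (inf_le_left : W i ⊓ W k ≤ W i))).op (y i)

section

variable (A : RelSpec.QCAlg Y)

/-- sections of the algebra as functions on its spectrum -/
def gam (U : Y.Opens) : A.presheaf.obj (op U) →+* Γ(A.spec, A.π ⁻¹ᵁ U) :=
  ((inv A.gammaMap).app (op U)).hom

theorem gam_bijective (U : Y.Opens) : Function.Bijective (gam A U) :=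
  ConcreteCategory.bijective_of_isIso ((inv A.gammaMap).app (op U))

theorem gam_res {V U : Y.Opens} (h : V ≤ U) (a : A.presheaf.obj (op U)) :
    A.spec.presheaf.map (homOfLE (A.π.preimage_mono h)).op (gam A U a) =
      gam A V (A.presheaf.map (homOfLE h).op a) :=
  congr($((inv A.gammaMap).naturality (homOfLE h).op) a).symm

theorem gam_str (U : Y.Opens) (c : Γ(Y, U)) : gam A U (A.str.app (op U) c) = A.π.app U c := by
  have h : A.str ≫ inv A.gammaMap = A.π.c := by
    rw [IsIso.comp_inv_eq]; exact A.π_c_gammaMap.symm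
  exact congr($(NatTrans.congr_app h (op U)) c)

end

/-- the total space of an invertible module, with sections of the powers as functions -/
theorem exists_bundle (L : Y.Modules) (hL : PicF.IsInvertible L) :
    ∃ (A : RelSpec.QCAlg Y) (C : Coords A.π), ∀ (n : ℕ) (s : Coh.structureModule Y ⟶ CohB1.tensorPow L n),
      ∃ F : Γ(A.spec, ⊤), ∀ i, ∃ c : Γ(Y, C.W i),
        A.spec.presheaf.map (homOfLE le_top).op F = A.π.app (C.W i) c * C.y i ^ n ∧
        ∀ x ∈ C.W i, (x ∈ CohB1.genLocus _ s ↔ x ∈ Y.basicOpen c) := by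
  have hLq : Coh.IsQCoh L := TMul.isQCoh_of_isInvertible hL
  obtain ⟨𝒮, j, hj⟩ := exists_isGrSymAlg hLq
  let C : Coords 𝒮.toQCAlg.π :=
    { I := Σ W : Y.affineOpens, {e : Γ(L, W.1) // TMul.IsGen e}
      W := fun i => i.1.1
      affine := fun i => i.1.2
      y := fun i => gam 𝒮.toQCAlg i.1.1 (jL j i.1.1 i.2.1)
      cover := fun x => by
        obtain ⟨V, hV, e, hxV, -, he⟩ := exists_triv hL (O := ⊤) (x := x) trivial
        exact ⟨⟨⟨V, hV⟩, e, he⟩, hxV⟩
      bij := fun i => by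
        have h : Polynomial.eval₂RingHom (𝒮.toQCAlg.π.app i.1.1).hom (gam 𝒮.toQCAlg i.1.1 (jL j i.1.1 i.2.1)) =
            (gam 𝒮.toQCAlg i.1.1).comp (evalL j i.1.1 i.2.1) := by
          refine Polynomial.ringHom_ext (fun c => ?_) ?_
          · simpa using (gam_str 𝒮.toQCAlg i.1.1 c).symm
          · simp
        rw [h]
        exact (gam_bijective 𝒮.toQCAlg i.1.1).comp (evalL_bijective hLq hj i.1.2 i.2.2)
      linear := fun i k => by
        have h1 : (i.1.1 : Y.Opens) ⊓ k.1.1 ≤ i.1.1 := inf_le_left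
        have h2 : (i.1.1 : Y.Opens) ⊓ k.1.1 ≤ k.1.1 := inf_le_right
        obtain ⟨c, hc⟩ := (i.2.2 _ h1).2 (QC.res L h2 k.2.1)
        obtain ⟨d, hd⟩ := (k.2.2 _ h2).2 (QC.res L h1 i.2.1)
        simp only at hc hd
        refine ⟨c, IsUnit.of_mul_eq_one d ((i.2.2 _ h1).1 ?_), ?_⟩
        · simp only [one_smul]
          rw [mul_comm, mul_smul, hc, hd]
        · rw [gam_res, gam_res, ← gam_str, ← map_mul]
          congr 1
          show resL 𝒮 h2 (jL j _ k.2.1) = strL 𝒮 _ c * resL 𝒮 h1 (jL j _ i.2.1)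
          rw [resL_jL, resL_jL, ← hc]
          exact Scheme.Modules.Hom.app_smul j c _ }
  refine ⟨𝒮.toQCAlg, C, fun n s => ⟨gam 𝒮.toQCAlg ⊤ (theta j n ⊤ (TMul.val s ⊤)), fun i => ?_⟩⟩
  obtain ⟨c, hc⟩ := (TMul.isGen_pw i.2.2 n i.1.1 le_rfl).2 (TMul.val s i.1.1)
  simp only [QC.res_self] at hc
  refine ⟨c, ?_, fun x hx => ?_⟩
  · refine (gam_res 𝒮.toQCAlg (le_top : (i.1.1 : Y.Opens) ≤ ⊤) _).trans ?_
    rw [show 𝒮.toQCAlg.presheaf.map (homOfLE (le_top : (i.1.1 : Y.Opens) ≤ ⊤)).op (theta j n ⊤ (TMul.val s ⊤)) =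
        strL 𝒮 i.1.1 c * jL j i.1.1 i.2.1 ^ n by
      show resL 𝒮 le_top _ = _
      rw [theta_res, TMul.res_val, ← hc, theta_smul, theta_pw],
      map_mul, map_pow]
    exact congrArg (· * _) (gam_str 𝒮.toQCAlg _ c)
  · rw [TMul.mem_genLocus_iff_isUnit s (TMul.isGen_pw i.2.2 n) hc.symm hx, Y.mem_basicOpen c x hx]

end Groth.Agent.GITLin
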