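import Groth.Agent.GITLin.Bundle
import Groth.Prelude.Def_GLinSh
import Mathlib.AlgebraicGeometry.Morphisms.Flat

/-!
# The linearised pull-back of an invertible module along an invariant morphism
-/

set_option autoImplicit false
set_option backward.isDefEq.respectTransparency false
set_option linter.style.haveILetI false

universe u

open CategoryTheory CategoryTheory.Limits MonoidalCategory CartesianMonoidalCategory MonObj
  AlgebraicGeometry TopologicalSpace Opposite

noncomputable section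

namespace Groth.Agent.GITLin

theorem bij_eval₂_pushout {R B C D : CommRingCat.{u}} {f : R ⟶ B} {g : R ⟶ C} {i : B ⟶ D} {j : C ⟶ D}
    (h : IsPushout f g i j) (y : C) (hy : Function.Bijective (Polynomial.eval₂RingHom g.hom y)) :
    Function.Bijective (Polynomial.eval₂RingHom i.hom (j y)) := by
  let e := RingEquiv.ofBijective _ hy
  have he : ∀ r, e.symm (g r) = Polynomial.C r := fun r => e.injective (by simp [e])
  have hX : e.symm y = Polynomial.X := e.injective (by simp [e])
  have w : f ≫ CommRingCat.ofHom (Polynomial.C (R := B)) =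
      g ≫ CommRingCat.ofHom ((Polynomial.mapRingHom f.hom).comp e.symm.toRingHom) := by
    ext r; simp [he]
  let ψ := h.desc _ _ w
  have h1 : ψ.hom.comp (Polynomial.eval₂RingHom i.hom (j y)) = RingHom.id _ := by
    refine Polynomial.ringHom_ext (fun b => ?_) ?_
    · simp only [RingHom.comp_apply, Polynomial.coe_eval₂RingHom, Polynomial.eval₂_C, RingHom.id_apply]
      exact congr($(h.inl_desc _ _ w) b)
    · simp only [RingHom.comp_apply, Polynomial.coe_eval₂RingHom, Polynomial.eval₂_X, RingHom.id_apply]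
      exact congr($(h.inr_desc _ _ w) y).trans (by simp [hX])
  have h2 : ψ ≫ CommRingCat.ofHom (Polynomial.eval₂RingHom i.hom (j y)) = 𝟙 D := by
    refine h.hom_ext ?_ ?_
    · rw [h.inl_desc_assoc, Category.comp_id]
      ext b; simp
    · rw [h.inr_desc_assoc, Category.comp_id]
      ext z
      obtain ⟨p, rfl⟩ := hy.surjective z
      have hp : e.symm (Polynomial.eval₂RingHom g.hom y p) = p := e.symm_apply_apply p
      simp only [CommRingCat.hom_comp, CommRingCat.hom_ofHom, RingHom.comp_apply, RingEquiv.toRingHom_eq_coe,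
        RingHom.coe_coe, Polynomial.coe_eval₂RingHom, Polynomial.coe_mapRingHom, Polynomial.eval₂_map]
      rw [Polynomial.hom_eval₂]
      congr 1
      exact congr($(h.w).hom)
  exact Function.bijective_iff_has_inverse.mpr
    ⟨ψ, fun p => congr($h1 p), fun d => congr($h2 d)⟩

theorem appLE_congr {X Y : Scheme.{u}} {f g : X ⟶ Y} (h : f = g) {U : Y.Opens} {V : X.Opens}
    (e : V ≤ f ⁻¹ᵁ U) (e' : V ≤ g ⁻¹ᵁ U) : f.appLE U V e = g.appLE U V e' := by
  subst h; rfl

variable {S : Scheme.{u}} {G X Y : Over S} [GrpObj G] (a : AlgGrp.Action G X) (φ : X ⟶ Y)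
  (A : RelSpec.QCAlg Y.left) (C : Coords A.π)

/-- the total space of the pulled-back bundle -/
abbrev tot : Over S := Over.mk (pullback.fst φ.left A.π ≫ X.hom)

/-- its projection -/
abbrev proj : tot φ A ⟶ X := Over.homMk (pullback.fst φ.left A.π) rfl

/-- the projection to the bundle on `Y` -/
abbrev toY : (tot φ A).left ⟶ A.spec := pullback.snd φ.left A.π

theorem le_toY {U : X.left.Opens} {W : Y.left.Opens} (h : U ≤ φ.left ⁻¹ᵁ W) :
    (proj φ A).left ⁻¹ᵁ U ≤ toY φ A ⁻¹ᵁ (A.π ⁻¹ᵁ W) := fun p hp => by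
  show A.π (toY φ A p) ∈ W
  rw [← Scheme.Hom.comp_apply, ← pullback.condition, Scheme.Hom.comp_apply]
  exact h hp

/-- pulled-back coordinate -/
def coordP {U : X.left.Opens} (i : C.I) (h : U ≤ φ.left ⁻¹ᵁ C.W i) : Γ((tot φ A).left, (proj φ A).left ⁻¹ᵁ U) :=
  (toY φ A).appLE (A.π ⁻¹ᵁ C.W i) _ (le_toY φ A h) (C.y i)

/-- admissible coordinates -/
def chartP (U : X.left.Opens) : Set Γ((tot φ A).left, (proj φ A).left ⁻¹ᵁ U) :=
  {y | ∃ (i : C.I) (h : U ≤ φ.left ⁻¹ᵁ C.W i), y = coordP φ A C i h}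

theorem res_coordP {U O : X.left.Opens} (i : C.I) (h : U ≤ φ.left ⁻¹ᵁ C.W i) (hO : O ≤ U) :
    GLinSh.res (proj φ A) hO (coordP φ A C i h) = coordP φ A C i (hO.trans h) :=
  congr($(Scheme.Hom.appLE_map (toY φ A) (le_toY φ A h) (homOfLE ((proj φ A).left.preimage_mono hO)).op) (C.y i))

theorem app_app {U : X.left.Opens} {W : Y.left.Opens} (h : U ≤ φ.left ⁻¹ᵁ W) (c : Γ(Y.left, W)) :
    (proj φ A).left.app U (φ.left.appLE W U h c) = (toY φ A).appLE _ _ (le_toY φ A h) (A.π.app W c) := by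
  rw [Scheme.Hom.app_eq_appLE, Scheme.Hom.app_eq_appLE, ← ConcreteCategory.comp_apply, ← ConcreteCategory.comp_apply,
    Scheme.Hom.appLE_comp_appLE, Scheme.Hom.appLE_comp_appLE]
  exact congr($(appLE_congr (pullback.condition) _ _) c)

variable [IsAffineHom φ.left]

omit [IsAffineHom φ.left] in
theorem coordP_bij {U : X.left.Opens} (i : C.I) (h : U ≤ φ.left ⁻¹ᵁ C.W i) :
    GLinSh.IsFibreCoord (proj φ A) U (coordP φ A C i h) := by
  intro O hO hOU
  rw [res_coordP]
  have hO' : (proj φ A).left ⁻¹ᵁ O = pullback.fst φ.left A.π ⁻¹ᵁ O ⊓ toY φ A ⁻¹ᵁ (A.π ⁻¹ᵁ C.W i) :=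
    (inf_eq_left.mpr (le_toY φ A (hOU.trans h))).symm
  have hpo := (isIso_pushoutSection_iff (IsPullback.of_hasPullback φ.left A.π) le_rfl (hOU.trans h) hO').mp
    (isIso_pushoutSection_of_isAffineOpen _ _ _ _ (C.affine i) ((C.affine i).preimage A.π) hO)
  have := bij_eval₂_pushout hpo (C.y i) (by rw [← Scheme.Hom.app_eq_appLE]; exact C.bij i)
  rw [Scheme.Hom.app_eq_appLE]
  exact this

omit [IsAffineHom φ.left] in
theorem isAffineHom_fst : IsAffineHom (pullback.fst φ.left A.π) :=
  MorphismProperty.pullback_fst (P := @IsAffineHom) _ _ A.isAffineHom_π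

/-- the pulled-back atlas -/
def atlasP : GLinSh.LinAtlas (proj φ A) where
  affine := isAffineHom_fst φ A
  chart := chartP φ A C
  cover x := by
    obtain ⟨i, hi⟩ := C.cover (φ.left x)
    exact ⟨φ.left ⁻¹ᵁ C.W i, hi, _, i, le_rfl, rfl⟩
  coord := by
    rintro U y ⟨i, h, rfl⟩
    exact coordP_bij φ A C i h
  linear := by
    rintro U U' y y' ⟨i, h, rfl⟩ ⟨k, h', rfl⟩
    obtain ⟨c, hc, hcy⟩ := C.linear i k
    have hle : U ⊓ U' ≤ φ.left ⁻¹ᵁ (C.W i ⊓ C.W k) := inf_le_inf h h'
    refine ⟨φ.left.appLE _ _ hle c, hc.map _, ?_⟩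
    rw [res_coordP, res_coordP, app_app, coordP, coordP]
    have := congrArg ((toY φ A).appLE (A.π ⁻¹ᵁ (C.W i ⊓ C.W k)) _ (le_toY φ A hle)) hcy
    simp only [map_mul, ← ConcreteCategory.comp_apply, Scheme.Hom.map_appLE] at this ⊢
    exact this

variable (hφ : GIT.IsInvariant a φ)

omit [IsAffineHom φ.left] in
theorem actP_w (hφ : GIT.IsInvariant a φ) : ((G ◁ proj φ A) ≫ a.act).left ≫ φ.left =
    ((snd G (tot φ A)).left ≫ toY φ A) ≫ A.π := by
  rw [Category.assoc, ← pullback.condition, ← Over.comp_left, Category.assoc, hφ, whiskerLeft_snd_assoc]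
  simp

/-- the lifted action, as a morphism -/
def actP : G ⊗ tot φ A ⟶ tot φ A :=
  Over.homMk (pullback.lift ((G ◁ proj φ A) ≫ a.act).left ((snd G (tot φ A)).left ≫ toY φ A) (actP_w a φ A hφ))
    (by
      show pullback.lift _ _ _ ≫ pullback.fst φ.left A.π ≫ X.hom = _
      rw [pullback.lift_fst_assoc]
      exact Over.w _)

omit [IsAffineHom φ.left] in
theorem actP_π : actP a φ A hφ ≫ proj φ A = (G ◁ proj φ A) ≫ a.act := by
  ext : 1
  exact pullback.lift_fst _ _ _

omit [IsAffineHom φ.left] in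
theorem actP_toY : (actP a φ A hφ).left ≫ toY φ A = (snd G (tot φ A)).left ≫ toY φ A :=
  pullback.lift_snd _ _ _

omit [IsAffineHom φ.left] in
theorem hom_ext_tot {T : Over S} {f g : T ⟶ tot φ A} (h1 : f ≫ proj φ A = g ≫ proj φ A)
    (h2 : f.left ≫ toY φ A = g.left ≫ toY φ A) : f = g := by
  ext : 1
  exact pullback.hom_ext congr($(h1).left) h2

/-- the lifted action -/
def liftP : AlgGrp.Action G (tot φ A) where
  act := actP a φ A hφ
  one_act := by
    apply hom_ext_tot φ A
    · rw [Category.assoc, actP_π, ← whisker_exchange_assoc, a.one_act, leftUnitor_naturality]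
    · rw [Over.comp_left, Category.assoc, actP_toY, ← Category.assoc, ← Over.comp_left, whiskerRight_snd,
        leftUnitor_hom]
  mul_act := by
    apply hom_ext_tot φ A
    · simp only [Category.assoc, actP_π]
      rw [← whisker_exchange_assoc, a.mul_act, ← whiskerLeft_comp_assoc, actP_π, whiskerLeft_comp_assoc,
        associator_naturality_right_assoc]
    · simp only [Over.comp_left, Category.assoc, actP_toY]
      simp only [← Category.assoc, ← Over.comp_left]
      rw [whiskerRight_snd, Category.assoc, whiskerLeft_snd]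
      simp only [Over.comp_left, Category.assoc, actP_toY]
      simp only [← Category.assoc, ← Over.comp_left]
      simp

/-- the pulled-back linearised bundle -/
def bunP : GLinSh.LinBun G a where
  V := tot φ A
  π := proj φ A
  atlas := atlasP φ A C
  lift := liftP a φ A hφ
  lift_π := actP_π a φ A hφ
  lift_linear := by
    rintro U U' y y' ⟨i, h, rfl⟩ ⟨k, h', rfl⟩
    obtain ⟨c, -, hcy⟩ := C.linear i k
    have hle : a.act.left ⁻¹ᵁ U' ⊓ (snd G X).left ⁻¹ᵁ U ≤ ((snd G X).left ≫ φ.left) ⁻¹ᵁ (C.W i ⊓ C.W k) :=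
      fun p hp => ⟨h hp.2, by
        show ((snd G X).left ≫ φ.left) p ∈ C.W k
        rw [← hφ.left]; exact h' hp.1⟩
    refine ⟨((snd G X).left ≫ φ.left).appLE _ _ hle c, ?_⟩
    set lo := GLinSh.liftOpen a (proj φ A) U U'
    have e : ((G ◁ proj φ A).left ≫ (snd G X).left) ≫ φ.left = ((snd G (tot φ A)).left ≫ toY φ A) ≫ A.π := by
      rw [Category.assoc _ _ A.π, ← pullback.condition, ← Over.comp_left, whiskerLeft_snd]
      simp
    have hlo : lo ≤ ((snd G (tot φ A)).left ≫ toY φ A) ⁻¹ᵁ (A.π ⁻¹ᵁ (C.W i ⊓ C.W k)) := fun p hp => by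
      show (((snd G (tot φ A)).left ≫ toY φ A) ≫ A.π) p ∈ C.W i ⊓ C.W k
      rw [← e]
      exact hle (GLinSh.liftOpen_le_base a (proj φ A) hp)
    have := congrArg (((snd G (tot φ A)).left ≫ toY φ A).appLE (A.π ⁻¹ᵁ (C.W i ⊓ C.W k)) lo hlo) hcy
    simp only [map_mul, ← ConcreteCategory.comp_apply, Scheme.Hom.map_appLE] at this
    simp only [coordP, ← ConcreteCategory.comp_apply, Scheme.Hom.appLE_comp_appLE]
    refine Eq.trans ?_ (this.trans (congrArg₂ (· * ·) ?_ rfl))
    · exact congr($(appLE_congr (actP_toY a φ A hφ) _ _) (C.y k))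
    · rw [Scheme.Hom.app_eq_appLE, Scheme.Hom.appLE_comp_appLE]
      exact congr($(appLE_congr (e.symm.trans (Category.assoc _ _ _)) _ _) c)

omit [IsAffineHom φ.left] in
theorem isInvSection_bunP {n : ℕ} (F : Γ(A.spec, ⊤))
    (hF : ∀ i, ∃ c : Γ(Y.left, C.W i), A.spec.presheaf.map (homOfLE le_top).op F = A.π.app (C.W i) c * C.y i ^ n) :
    (bunP a φ A C hφ).IsInvSection n ((toY φ A).appTop F) := by
  refine ⟨?_, ?_⟩
  · rintro U y ⟨i, h, rfl⟩
    obtain ⟨c, hc⟩ := hF i
    refine ⟨φ.left.appLE _ _ h c, ?_⟩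
    have := congrArg ((toY φ A).appLE (A.π ⁻¹ᵁ C.W i) _ (le_toY φ A h)) hc
    rw [map_mul, map_pow, ← ConcreteCategory.comp_apply, Scheme.Hom.map_appLE, ← app_app φ A h c] at this
    exact this
  · show (actP a φ A hφ).left.appTop ((toY φ A).appTop F) = _
    have e := congrArg (fun f => Scheme.Hom.appTop f) (actP_toY a φ A hφ)
    simp only [Scheme.Hom.comp_appTop] at e
    exact congr($e F)

theorem nonvanishing_bunP {n : ℕ} (F : Γ(A.spec, ⊤)) (D : Y.left.Opens)
    (hF : ∀ i, ∃ c : Γ(Y.left, C.W i), A.spec.presheaf.map (homOfLE le_top).op F = A.π.app (C.W i) c * C.y i ^ n ∧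
      ∀ y ∈ C.W i, (y ∈ D ↔ y ∈ Y.left.basicOpen c)) :
    GLinSh.nonvanishing (proj φ A) ((toY φ A).appTop F) = (φ.left ⁻¹ᵁ D : X.left.Opens) := by
  ext x
  obtain ⟨i, hi⟩ := C.cover (φ.left x)
  obtain ⟨c, hc, hD⟩ := hF i
  let O : X.left.Opens := φ.left ⁻¹ᵁ C.W i
  have hO : IsAffineOpen O := (C.affine i).preimage φ.left
  have hV : IsAffineOpen ((proj φ A).left ⁻¹ᵁ O) :=
    haveI := isAffineHom_fst φ A
    hO.preimage (pullback.fst φ.left A.π)
  let c' := φ.left.appLE (C.W i) O le_rfl c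
  let yO := coordP φ A C i (le_refl O)
  have hres : GLinSh.resTop (proj φ A) O ((toY φ A).appTop F) = (proj φ A).left.app O c' * yO ^ n := by
    have := congrArg ((toY φ A).appLE (A.π ⁻¹ᵁ C.W i) _ (le_toY φ A (le_refl O))) hc
    rw [map_mul, map_pow, ← ConcreteCategory.comp_apply, Scheme.Hom.map_appLE, ← app_app φ A (le_refl O) c] at this
    exact this
  have hbo : ∀ p, (proj φ A).left p = x → (p ∈ (tot φ A).left.basicOpen ((toY φ A).appTop F) ↔
      p ∈ (tot φ A).left.basicOpen ((proj φ A).left.app O c' * yO ^ n)) := fun p hp => by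
    rw [← hres, GLinSh.resTop, Scheme.basicOpen_res]
    exact ⟨fun h => ⟨show (proj φ A).left p ∈ O by rw [hp]; exact hi, h⟩, fun h => h.2⟩
  have hc' : x ∈ X.left.basicOpen c' ↔ φ.left x ∈ D := by
    rw [hD _ hi, show c' = φ.left.app _ c from congr($(φ.left.appLE_eq_app) c), ← Scheme.preimage_basicOpen]
    rfl
  constructor
  · rintro ⟨p, hp, rfl⟩
    have h := (hbo p rfl).mp hp
    rw [Scheme.basicOpen_mul, ← Scheme.preimage_basicOpen] at h
    exact hc'.mp h.1
  · intro hx
    let e := RingEquiv.ofBijective _ (coordP_bij φ A C i (le_refl O) O hO le_rfl)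
    let σ : Γ((tot φ A).left, (proj φ A).left ⁻¹ᵁ O) →+* Γ(X.left, O) :=
      (Polynomial.evalRingHom 1).comp e.symm.toRingHom
    have hσc : ∀ r, σ ((proj φ A).left.app O r) = r := fun r => by
      have : e.symm ((proj φ A).left.app O r) = Polynomial.C r := e.injective (by simp [e])
      change Polynomial.eval 1 (e.symm _) = r
      rw [this, Polynomial.eval_C]
    have hσy : σ yO = 1 := by
      have : e.symm yO = Polynomial.X := e.injective (by simp [e, yO, res_coordP])
      change Polynomial.eval 1 (e.symm yO) = 1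
      rw [this, Polynomial.eval_X]
    let q := hO.primeIdealOf ⟨x, hi⟩
    let p := hV.fromSpec ((Spec.map (CommRingCat.ofHom σ)) q)
    have hp : (proj φ A).left p = x := by
      have hcomp : Spec.map (CommRingCat.ofHom σ) ≫ hV.fromSpec ≫ (proj φ A).left = hO.fromSpec := by
        rw [← hO.SpecMap_appLE_fromSpec (proj φ A).left hV (le_refl _), ← Spec.map_comp_assoc,
          show (proj φ A).left.appLE O _ le_rfl ≫ CommRingCat.ofHom σ = 𝟙 _ from
            CommRingCat.hom_ext (RingHom.ext fun r => by simpa [Scheme.Hom.app_eq_appLE] using hσc r),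
          Spec.map_id]
        exact Category.id_comp _
      exact congr($hcomp q).trans (hO.fromSpec_primeIdealOf ⟨x, hi⟩)
    refine ⟨p, (hbo p hp).mpr ?_, hp⟩
    change ((Spec.map (CommRingCat.ofHom σ)) q) ∈ hV.fromSpec ⁻¹ᵁ (tot φ A).left.basicOpen _
    rw [hV.fromSpec_preimage_basicOpen, PrimeSpectrum.mem_basicOpen]
    show σ _ ∉ q.asIdeal
    rw [map_mul, map_pow, hσc, hσy, one_pow, _root_.mul_one, ← PrimeSpectrum.mem_basicOpen,
      ← hO.fromSpec_preimage_basicOpen]
    show hO.fromSpec q ∈ X.left.basicOpen c'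
    rw [hO.fromSpec_primeIdealOf]
    exact hc'.mpr hx

end Groth.Agent.GITLin
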